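import Groth.Agent.FittLib.Generated
import Groth.Agent.GradedCechLib.Main

/-!
Affine morphisms with free direct image over a scheme with only constant functions are constant.
-/

set_option autoImplicit false
set_option linter.style.haveILetI false

noncomputable section

universe u

open CategoryTheory CategoryTheory.Limits AlgebraicGeometry Opposite
open scoped TensorProduct

namespace FreeCoverLib

theorem isPushout_of_coords {K C A Q : CommRingCat.{u}} (a : K ⟶ C) (b : K ⟶ A) (c : C ⟶ Q) (d : A ⟶ Q)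
    (w : a ≫ c = b ≫ d) {ι : Type} [Fintype ι] (x : ι → A)
    (hA : ∀ y : A, ∃! t : ι → K, ∑ i, b.hom (t i) * x i = y)
    (hQ : ∀ y : Q, ∃! t : ι → C, ∑ i, c.hom (t i) * d.hom (x i) = y) : IsPushout a b c d := by
  classical
  algebraize [a.hom, b.hom, c.hom, d.hom, (a ≫ c).hom]
  haveI : IsScalarTower K C Q := IsScalarTower.of_algebraMap_eq fun r => rfl
  haveI : IsScalarTower K A Q := IsScalarTower.of_algebraMap_eq fun r => congr($(w).hom r)
  have eA : Function.Bijective (Fintype.linearCombination K x) :=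
    (Function.bijective_iff_existsUnique _).2 hA
  have eQ : Function.Bijective (Fintype.linearCombination C fun i => d.hom (x i)) :=
    (Function.bijective_iff_existsUnique _).2 hQ
  let bA := Module.Basis.ofEquivFun (LinearEquiv.ofBijective _ eA).symm
  let bQ := Module.Basis.ofEquivFun (LinearEquiv.ofBijective _ eQ).symm
  have hbA : ∀ i, bA i = x i := fun i => by
    simp [bA, Fintype.linearCombination_apply, Pi.single_apply]
  have hbQ : ∀ i, bQ i = d.hom (x i) := fun i => by
    simp [bQ, Fintype.linearCombination_apply, Pi.single_apply]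
  let e := (bA.baseChange C).equiv bQ (Equiv.refl ι)
  let g : (A : Type u) →ₗ[K] Q := (IsScalarTower.toAlgHom K A Q).toLinearMap
  have he : (e.toLinearMap.restrictScalars K) ∘ₗ (TensorProduct.mk K C A 1) = g := by
    refine bA.ext fun i => ?_
    show e (1 ⊗ₜ bA i) = algebraMap A Q (bA i)
    rw [← Module.Basis.baseChange_apply, Module.Basis.equiv_apply, Equiv.refl_apply, hbQ, hbA]
    rfl
  have : Algebra.IsPushout K C A Q := ⟨IsBaseChange.of_equiv e fun y => LinearMap.congr_fun he y⟩
  exact CommRingCat.isPushout_of_isPushout K C A Q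

theorem existsUnique_coord {Z : Scheme.{u}} {n : ℕ} {V : Z.Opens} (e : Γ(FlatMod.freeMod Z n, V)) :
    ∃! t : Fin n → Γ(Z, V), ∑ i, t i • FittLib.stdSec Z n V i = e :=
  ⟨FittLib.coord e, (FittLib.sum_coord e).symm, fun t ht => funext fun j => by
    rw [← ht, FittLib.coord_sum_smul]⟩

theorem stdSec_res (Z : Scheme.{u}) (n : ℕ) {V W : Z.Opens} (i : W ≤ V) (j : Fin n) :
    (FlatMod.freeMod Z n).presheaf.map (homOfLE i).op (FittLib.stdSec Z n V j) = FittLib.stdSec Z n W j := by
  refine (congr($((Sigma.ι (fun _ : Fin n => Coh.structureModule Z) j).mapPresheaf.naturality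
    (homOfLE i).op).hom (1 : Γ(Z, V)))).symm.trans ?_
  exact congrArg _ (map_one (Z.presheaf.map (homOfLE i).op).hom)

variable {P F : Scheme.{u}} (f : F ⟶ P) [IsAffineHom f] {k : Type u} [Field k]
  (p : P ⟶ Spec (CommRingCat.of k))
  (hp : Function.Bijective ((Scheme.ΓSpecIso (CommRingCat.of k)).inv ≫ p.appTop).hom)
  {d : ℕ} (e : (Scheme.Modules.pushforward f).obj (Coh.structureModule F) ≅ FlatMod.freeMod P d)

/-- The global functions given by the trivialisation. -/
def basisSec (V : P.Opens) (j : Fin d) : Γ(F, f ⁻¹ᵁ V) :=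
  e.inv.app V (FittLib.stdSec P d V j)

omit [IsAffineHom f] in
theorem basisSec_res {V W : P.Opens} (i : W ≤ V) (j : Fin d) :
    F.presheaf.map (homOfLE (f.preimage_mono i)).op (basisSec f e V j) = basisSec f e W j := by
  refine (congr($(e.inv.mapPresheaf.naturality (homOfLE i).op).hom (FittLib.stdSec P d V j))).symm.trans ?_
  exact congrArg _ (stdSec_res P d i j)

omit [IsAffineHom f] in
theorem existsUnique_sections (V : P.Opens) (y : Γ(F, f ⁻¹ᵁ V)) :
    ∃! t : Fin d → Γ(P, V), ∑ i, (f.app V).hom (t i) * basisSec f e V i = y := by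
  let L := (Scheme.Modules.pushforward f).obj (Coh.structureModule F)
  have key : ∀ t : Fin d → Γ(P, V), ∑ i, (f.app V).hom (t i) * basisSec f e V i =
      e.inv.app V (∑ i, t i • FittLib.stdSec P d V i) := by
    intro t
    refine Eq.trans ?_ (map_sum (e.inv.app V).hom _ _).symm
    exact Finset.sum_congr rfl fun i _ => (QCohLib.app_smul e.inv V (t i) _).symm
  obtain ⟨t, ht, hu⟩ := existsUnique_coord (e.hom.app V (y : Γ(L, V)))
  have hinv : ∀ z : Γ(L, V), e.inv.app V (e.hom.app V z) = z := fun z =>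
    congrArg (fun φ : L ⟶ L => φ.app V z) e.hom_inv_id
  have hinv' : ∀ z : Γ(FlatMod.freeMod P d, V), e.hom.app V (e.inv.app V z) = z := fun z =>
    congrArg (fun φ : FlatMod.freeMod P d ⟶ FlatMod.freeMod P d => φ.app V z) e.inv_hom_id
  refine ⟨t, (key t).trans ((congrArg _ ht).trans (hinv y)), fun s hs => hu s ?_⟩
  exact (hinv' _).symm.trans (congrArg _ ((key s).symm.trans hs))

include hp e in
/-- The morphism is the base change of the spectrum of its global functions. -/
theorem exists_isPullback :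
    ∃ (A : CommRingCat.{u}) (φ : Spec A ⟶ Spec (CommRingCat.of k)) (q : F ⟶ Spec A), IsPullback f q p φ := by
  let γ : CommRingCat.of k ⟶ Γ(P, ⊤) := (Scheme.ΓSpecIso (CommRingCat.of k)).inv ≫ p.appTop
  let b : CommRingCat.of k ⟶ Γ(F, ⊤) := γ ≫ f.appTop
  have hγ : P.toSpecΓ ≫ Spec.map γ = p := by
    rw [Spec.map_comp, ← Scheme.toSpecΓ_naturality_assoc, toSpecΓ_SpecMap_ΓSpecIso_inv, Category.comp_id]
  have hw : f ≫ p = F.toSpecΓ ≫ Spec.map b := by
    rw [Spec.map_comp, ← Scheme.toSpecΓ_naturality_assoc, hγ]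
  refine ⟨Γ(F, ⊤), Spec.map b, F.toSpecΓ, ?_⟩
  let h : F ⟶ pullback p (Spec.map b) := pullback.lift f F.toSpecΓ hw
  suffices IsIso h from IsPullback.of_iso_pullback ⟨hw⟩ (asIso h) (pullback.lift_fst _ _ _) (pullback.lift_snd _ _ _)
  let 𝒰 : P.OpenCover := Scheme.Cover.mkOfCovers P.affineOpens (fun U => Spec Γ(P, U.1))
    (fun U => U.2.fromSpec) (fun x => by
      obtain ⟨U, hU, hx, -⟩ := exists_isAffineOpen_mem_and_subset (x := x) (U := ⊤) (by trivial)
      obtain ⟨z, hz⟩ : x ∈ Set.range hU.fromSpec := by rw [hU.range_fromSpec]; exact hx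
      exact ⟨⟨U, hU⟩, z, hz⟩) (fun U => U.2.isOpenImmersion_fromSpec)
  let pr := pullback.fst p (Spec.map b)
  change MorphismProperty.isomorphisms Scheme h
  suffices ∀ (U : P.Opens) (hU : IsAffineOpen U), IsIso (pullback.snd h (pullback.fst pr hU.fromSpec)) from
    IsZariskiLocalAtTarget.of_openCover (P := MorphismProperty.isomorphisms Scheme) (𝒰.pullback₁ pr) fun U =>
      this (Subtype.val U) (Subtype.property U)
  intro U hU
  have hW : IsAffineOpen (f ⁻¹ᵁ U) := hU.preimage f
  have sqW : IsPullback hW.fromSpec (Spec.map (f.app U)) f hU.fromSpec := by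
    have hc : hW.fromSpec ≫ f = Spec.map (f.app U) ≫ hU.fromSpec := by
      rw [Scheme.Hom.app_eq_appLE, IsAffineOpen.SpecMap_appLE_fromSpec]
    exact (IsOpenImmersion.isPullback _ _ _ f hc (by rw [hU.opensRange_fromSpec, hW.opensRange_fromSpec])).flip
  have sqA : IsPullback (Spec.map (f.app U)) (hW.fromSpec ≫ F.toSpecΓ) (hU.fromSpec ≫ p) (Spec.map b) := by
    rw [hW.fromSpec_toSpecΓ, ← hγ, ← Category.assoc hU.fromSpec, hU.fromSpec_toSpecΓ, ← Spec.map_comp]
    refine isPullback_SpecMap_of_isPushout _ _ _ _ ?_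
    refine isPushout_of_coords _ b _ _ ?_ (fun j => (show Γ(F, ⊤) from basisSec f e ⊤ j)) (fun y => ?_) (fun y => ?_)
    · show (γ ≫ P.presheaf.map (homOfLE le_top).op) ≫ f.app U = (γ ≫ f.appTop) ≫ F.presheaf.map _
      rw [Category.assoc, f.naturality, Category.assoc]
      rfl
    · obtain ⟨t, ht, hu⟩ := existsUnique_sections f e ⊤ y
      choose g hg using hp.2
      refine ⟨fun i => g (t i), ?_, fun s hs => funext fun i => hp.1 ?_⟩
      · refine Eq.trans (Finset.sum_congr rfl fun i _ => ?_) ht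
        exact congrArg (fun z => f.appTop.hom z * (show Γ(F, ⊤) from basisSec f e ⊤ i)) (hg (t i))
      · exact (congrFun (hu (fun i => γ.hom (s i)) hs) i).trans (hg (t i)).symm
    · have hr : ∀ i, (F.presheaf.map (homOfLE le_top).op).hom (basisSec f e ⊤ i) = basisSec f e U i :=
        fun i => basisSec_res f e le_top i
      simp only [hr]
      exact existsUnique_sections f e U y
  have sqG : IsPullback (pullback.fst pr hU.fromSpec) (pullback.snd pr hU.fromSpec) pr hU.fromSpec :=
    IsPullback.of_hasPullback _ _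
  have sqG' : IsPullback (pullback.snd pr hU.fromSpec)
      (pullback.fst pr hU.fromSpec ≫ pullback.snd p (Spec.map b)) (hU.fromSpec ≫ p) (Spec.map b) :=
    sqG.flip.paste_vert (IsPullback.of_hasPullback p (Spec.map b))
  let i : Spec Γ(F, f ⁻¹ᵁ U) ⟶ pullback pr hU.fromSpec := pullback.lift (hW.fromSpec ≫ h) (Spec.map (f.app U)) (by
    rw [Category.assoc, pullback.lift_fst]
    exact sqW.w)
  have hi : i = (sqA.isoIsPullback _ _ sqG').hom := by
    apply sqG'.hom_ext
    · rw [pullback.lift_snd, IsPullback.isoIsPullback_hom_fst]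
    · rw [pullback.lift_fst_assoc, Category.assoc, pullback.lift_snd, IsPullback.isoIsPullback_hom_snd]
  haveI : IsIso i := by rw [hi]; infer_instance
  have sqi : IsPullback hW.fromSpec i h (pullback.fst pr hU.fromSpec) := by
    refine IsPullback.of_bot ?_ (pullback.lift_fst _ _ _).symm sqG
    rw [pullback.lift_fst, pullback.lift_snd]
    exact sqW
  rw [← sqi.isoPullback_inv_snd]
  infer_instance

include hp e in
/-- The morphism is the pullback of its fibre at any rational point. -/
theorem nonempty_iso (s : Spec (CommRingCat.of k) ⟶ P) (hs : s ≫ p = 𝟙 _) :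
    Nonempty (Over.mk f ≅ Over.mk (pullback.snd (pullback.snd f s) p)) := by
  obtain ⟨A, φ, q, hF⟩ := exists_isPullback f p hp e
  have h1 : IsPullback (pullback.snd f s) (pullback.fst f s ≫ q) (s ≫ p) φ :=
    (IsPullback.of_hasPullback f s).flip.paste_vert hF
  haveI : IsIso (pullback.fst f s ≫ q) := by
    haveI : IsIso (s ≫ p) := by rw [hs]; infer_instance
    exact h1.isIso_snd_of_isIso
  let t := pullback.fst f s ≫ q
  have ht : φ = inv t ≫ pullback.snd f s := by
    rw [IsIso.eq_inv_comp, ← h1.w, hs, Category.comp_id]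
  have h2 : IsPullback (q ≫ inv t) f (pullback.snd f s) p :=
    hF.flip.of_iso (Iso.refl _) (asIso t).symm (Iso.refl _) (Iso.refl _)
      (by simp) (by simp) (by simp [ht]) (by simp)
  exact ⟨Over.isoMk h2.isoPullback h2.isoPullback_hom_snd⟩

end FreeCoverLib
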